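import Cfsg.Agent.CosetCert.FiTwentyTwoU.Data

/-! Machine-generated checks. -/

set_option maxRecDepth 10000

namespace Cfsg.Agent.CosetCert.FiTwentyTwoU

open Cfsg.Agent.CosetCert

theorem facts_block4 : allB (fun k => Nat.ble data.nf k || data.cert.factOK k) 11 8192 = true := by
  decide +kernel

theorem facts_block5 : allB (fun k => Nat.ble data.nf k || data.cert.factOK k) 11 10240 = true := by
  decide +kernel

theorem facts_block6 : allB (fun k => Nat.ble data.nf k || data.cert.factOK k) 11 12288 = true := by
  decide +kernel

theorem facts_block7 : allB (fun k => Nat.ble data.nf k || data.cert.factOK k) 11 14336 = true := by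
  decide +kernel

end Cfsg.Agent.CosetCert.FiTwentyTwoU
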